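import Mathlib
import Cfsg.Agent.Rec.Pres

/-! Generated by tools/rec: the group 2^(1+4).S3 of M12 on eight points -/

set_option autoImplicit false
set_option maxRecDepth 100000
set_option linter.unusedVariables false
set_option exponentiation.threshold 100000

namespace Cfsg.Agent.NG.SmC

open Cfsg.Agent.Spor Cfsg.Agent.Rec

universe u

/-- Packed permutations of 8 points. -/
noncomputable def A : Ar := permAr (nat_lit 8) (nat_lit 0x706050403020100)

theorem A_ok : oneOK (nat_lit 8) (nat_lit 0x706050403020100) = true := by decide +kernel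

noncomputable def c0 : List ℕ := [(nat_lit 0x3040506010207), (nat_lit 0x706040503010200), (nat_lit 0x607040500020103), (nat_lit 0x703050406010200), (nat_lit 0x6010203040507)]

noncomputable def cU : List ℕ := [(nat_lit 0x3040506010207), (nat_lit 0x706040503010200), (nat_lit 0x703050406010200), (nat_lit 0x607010200040503), (nat_lit 0x607040500020103)]

noncomputable def cS : List ℕ := [(nat_lit 0x3040506010207), (nat_lit 0x706040503010200), (nat_lit 0x703050406010200), (nat_lit 0x607010200040503), (nat_lit 0x607040500020103), (nat_lit 0x402000701060305)]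

noncomputable def cC : List ℕ := [(nat_lit 0x3040506010207), (nat_lit 0x706040503010200), (nat_lit 0x703050406010200), (nat_lit 0x607010200040503), (nat_lit 0x607040500020103), (nat_lit 0x402000701060305), (nat_lit 0x704010205060300), (nat_lit 0x702030601040500)]

def rel0 : List (List ℕ) :=
  [[0, 0],
   [1, 1],
   [2, 2],
   [3, 3],
   [4, 4],
   [0, 1, 0, 1],
   [0, 2, 0, 2],
   [0, 3, 0, 3],
   [0, 4, 0, 4],
   [1, 2, 1, 2],
   [1, 3, 1, 3],
   [1, 4, 1, 4],
   [3, 2, 3, 2, 0, 1],
   [3, 4, 3, 4, 1],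
   [2, 4, 2, 4, 0]]

def relU : List (List ℕ) :=
  [[0, 0],
   [1, 1],
   [2, 2],
   [3, 3],
   [4, 4],
   [0, 1, 0, 1],
   [0, 2, 0, 2],
   [0, 3, 0, 3],
   [0, 4, 0, 4],
   [1, 2, 1, 2],
   [1, 3, 1, 3],
   [1, 4, 1, 4],
   [2, 3, 2, 3, 0],
   [4, 2, 4, 2, 0, 1],
   [4, 3, 4, 3, 1]]

def exS : List (List ℕ) :=
  [[5, 5],
   [5, 0, 5, 0],
   [5, 1, 5, 1, 0],
   [5, 2, 5, 2],
   [5, 3, 5, 3],
   [4, 5, 4, 5, 1, 3, 2]]

def exC : List (List ℕ) :=
  [[6, 7],
   [7, 6],
   [6, 6, 6],
   [6, 0, 7, 0],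
   [6, 1, 7, 2],
   [6, 2, 7, 2, 1],
   [6, 3, 7, 5],
   [6, 5, 7, 5, 3],
   [4, 6, 4, 6, 5, 1]]

def relS : List (List ℕ) := relU ++ exS

def relC : List (List ℕ) := relS ++ exC

noncomputable def t0_rels : LT :=
(.node (.node (.node (.node (.leaf [])
 (.leaf [nat_lit 0,nat_lit 3,nat_lit 0,nat_lit 3])
) (.node (.leaf [nat_lit 3,nat_lit 3])
 (.leaf [nat_lit 1,nat_lit 4,nat_lit 1,nat_lit 4])
)) (.node (.node (.leaf [nat_lit 1,nat_lit 1])
 (.leaf [nat_lit 1,nat_lit 2,nat_lit 1,nat_lit 2])
) (.node (.leaf [nat_lit 0,nat_lit 1,nat_lit 0,nat_lit 1])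
 (.leaf [nat_lit 3,nat_lit 4,nat_lit 3,nat_lit 4,nat_lit 1])
))) (.node (.node (.node (.leaf [nat_lit 0,nat_lit 0])
 (.leaf [nat_lit 0,nat_lit 4,nat_lit 0,nat_lit 4])
) (.node (.leaf [nat_lit 4,nat_lit 4])
 (.leaf [nat_lit 3,nat_lit 2,nat_lit 3,nat_lit 2,nat_lit 0,nat_lit 1])
)) (.node (.node (.leaf [nat_lit 2,nat_lit 2])
 (.leaf [nat_lit 1,nat_lit 3,nat_lit 1,nat_lit 3])
) (.node (.leaf [nat_lit 0,nat_lit 2,nat_lit 0,nat_lit 2])
 (.leaf [nat_lit 2,nat_lit 4,nat_lit 2,nat_lit 4,nat_lit 0])
))))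
noncomputable def t0_hws : LT :=
(.leaf [])

noncomputable def t0_inv : ℕ → ℕ := getP (nat_lit 8) (nat_lit 255) (nat_lit 0x403020100)

noncomputable def t0_t : BT :=
(.node (.node (.node (.leaf (nat_lit 0x32261c32241d00245e00265f121e9a001edb221b1232199012178f22158d32140c22120b12100a001b59120d0e0019d80017d7000d510015d6001455001254001053320605220504120403020302000649000548000447000346000040040001))
 (.leaf (nat_lit 0x25d60023cfa2229700204d921f93001ccaa21c140019480022dd04259f0013c6001c59001fdba20f0b920d87000bc404239e000a4304201c0008c2000f52041c9a0005c1041918000dd1041395000240040b90040a0e04088c040589040205))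
) (.node (.leaf (nat_lit 0x722799722518c22310722112001e4c721d950027df00255e001748c2168b001ddac2130d000fc600215c000cc500235d000b44720a89001354041e1b0016d60006c2000ace0417170003c1040f93040c91040b0f00014004068a040387040103))
 (.leaf (nat_lit 0x1011600c10f00c0ce00c10d00c08c00c10a00c0c900c10800c08800c0c700c10600c0c600c0860080c50080850081040080840081030080c30081020080c20080820081010080c10080810080410041000040c0004080004040004000000000))
)) (.node (.node (.leaf (nat_lit 0x62269e0026df52221c00225d421f11621d0e521b98001bd942180d52160f621489521288421087520e90001f5b000ed2001656001d5a0018576209055208044207030014d50012d40010d30002c100094c00084b00074a0000c0040286040082))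
 (.leaf (nat_lit 0x1ffc001ffc001ffc001ffc001ffc001ffc001ffc001ffc001ffc001ffc001ffc001ffc001ffc001ffc001ffc001ffc001ffc001ffc001ffc001ffc001ffc001ffc001ffc001ffc001ffc001ffc001ffc001ffc001ffc001ffc001ffc001ffc0))
) (.leaf (nat_lit 0x82271b8224910021ce82209a00275f0020dc001ac9821a15d2188a001547001a580011c6b2110f000e450024de820c0c00115304219d0009c3000c500007c20018d7041a990004c1041516041194040e120001c004098d04078b040488040184))
))

noncomputable def t0_rules : LT :=
(.node (.node (.node (.node (.leaf [nat_lit 6,nat_lit 1,nat_lit 1,nat_lit 0,nat_lit 1,nat_lit 0,nat_lit 1])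
 (.leaf [nat_lit 14,nat_lit 2,nat_lit 1,nat_lit 3,nat_lit 4,nat_lit 3,nat_lit 1,nat_lit 4])
) (.node (.leaf [nat_lit 10,nat_lit 1,nat_lit 1,nat_lit 1,nat_lit 2,nat_lit 1,nat_lit 2])
 (.leaf [nat_lit 13,nat_lit 4,nat_lit 1,nat_lit 2,nat_lit 3,nat_lit 1,nat_lit 0,nat_lit 2,nat_lit 3])
)) (.node (.node (.leaf [nat_lit 8,nat_lit 1,nat_lit 1,nat_lit 0,nat_lit 3,nat_lit 0,nat_lit 3])
 (.leaf [nat_lit 14,nat_lit 3,nat_lit 1,nat_lit 4,nat_lit 3,nat_lit 1,nat_lit 4,nat_lit 3])
) (.leaf [nat_lit 12,nat_lit 1,nat_lit 1,nat_lit 1,nat_lit 4,nat_lit 1,nat_lit 4])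
)) (.node (.node (.node (.leaf [nat_lit 7,nat_lit 1,nat_lit 1,nat_lit 0,nat_lit 2,nat_lit 0,nat_lit 2])
 (.leaf [nat_lit 15,nat_lit 3,nat_lit 1,nat_lit 4,nat_lit 2,nat_lit 0,nat_lit 4,nat_lit 2])
) (.node (.leaf [nat_lit 11,nat_lit 1,nat_lit 1,nat_lit 1,nat_lit 3,nat_lit 1,nat_lit 3])
 (.leaf [nat_lit 13,nat_lit 3,nat_lit 1,nat_lit 3,nat_lit 2,nat_lit 3,nat_lit 1,nat_lit 0,nat_lit 2])
)) (.node (.node (.leaf [nat_lit 9,nat_lit 1,nat_lit 1,nat_lit 0,nat_lit 4,nat_lit 0,nat_lit 4])
 (.leaf [nat_lit 13,nat_lit 2,nat_lit 0,nat_lit 3,nat_lit 2,nat_lit 0,nat_lit 1,nat_lit 3,nat_lit 2])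
) (.leaf [nat_lit 15,nat_lit 2,nat_lit 1,nat_lit 2,nat_lit 4,nat_lit 2,nat_lit 0,nat_lit 4])
)))

noncomputable def t0_subs : LT :=
(.leaf [nat_lit 0,nat_lit 0,nat_lit 0,nat_lit 5])


noncomputable def t0 : TC :=
  ⟨fun x c => Nat.shiftRight (BT.get t0_t x) (Nat.mul (nat_lit 24) c),
  (nat_lit 6), (nat_lit 63), (nat_lit 131071), (nat_lit 17), (nat_lit 127), (nat_lit 131008), (nat_lit 32), (nat_lit 32), (nat_lit 5), (nat_lit 0), (nat_lit 5), (nat_lit 6), t0_inv, t0_rules, t0_subs⟩

theorem t0_c1 : t0.rules.all (ruleOK t0.m t0.inv t0_rels) = true := by decide +kernel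
theorem t0_c2 : t0.subs.all (subOK t0.m t0.inv t0_hws) = true := by decide +kernel
theorem t0_c3 : t0.base = true := by decide +kernel

theorem t0_s0 : t0.slots (nat_lit 0) (nat_lit 32) = true := by decide +kernel

theorem t0_c4 : t0.Upto t0.N := ((TC.upto_zero t0).step _ t0_s0)
theorem t0_c5 : t0.UptoE t0.N := (TC.uptoE_n t0)
theorem t0_bound {G : Type*} [Group G] {g : ℕ → G} {H : Subgroup G} (hinv : ∀ x < 5, g x * g (t0_inv x) = 1)
    (hrels : ∀ i, evalW g (t0_rels.get i) = 1) (hH : ∀ x < 0, g x ∈ H) (hhws : ∀ i, evalW g (t0_hws.get i) ∈ H) :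
    H.relIndex (genLt g 5) ≠ 0 ∧ H.relIndex (genLt g 5) ≤ 32 :=
  TC.relIndex_le (T := t0) hinv hrels hH hhws t0_c1 t0_c2 t0_c3 t0_c4 t0_c5

theorem t0_bd : Bound.{u} rel0 0 5 32 := fun _ _ _ _ hs hH =>
  t0_bound (hs.hinv (by decide +kernel)) (hs.tree (by decide +kernel)) hH (leaf_nil_mem' _ _ (by decide +kernel))

noncomputable def tU_rels : LT :=
(.node (.node (.node (.node (.leaf [])
 (.leaf [nat_lit 0,nat_lit 3,nat_lit 0,nat_lit 3])
) (.node (.leaf [nat_lit 3,nat_lit 3])
 (.leaf [nat_lit 1,nat_lit 4,nat_lit 1,nat_lit 4])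
)) (.node (.node (.leaf [nat_lit 1,nat_lit 1])
 (.leaf [nat_lit 1,nat_lit 2,nat_lit 1,nat_lit 2])
) (.node (.leaf [nat_lit 0,nat_lit 1,nat_lit 0,nat_lit 1])
 (.leaf [nat_lit 4,nat_lit 2,nat_lit 4,nat_lit 2,nat_lit 0,nat_lit 1])
))) (.node (.node (.node (.leaf [nat_lit 0,nat_lit 0])
 (.leaf [nat_lit 0,nat_lit 4,nat_lit 0,nat_lit 4])
) (.node (.leaf [nat_lit 4,nat_lit 4])
 (.leaf [nat_lit 2,nat_lit 3,nat_lit 2,nat_lit 3,nat_lit 0])
)) (.node (.node (.leaf [nat_lit 2,nat_lit 2])
 (.leaf [nat_lit 1,nat_lit 3,nat_lit 1,nat_lit 3])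
) (.node (.leaf [nat_lit 0,nat_lit 2,nat_lit 0,nat_lit 2])
 (.leaf [nat_lit 4,nat_lit 3,nat_lit 4,nat_lit 3,nat_lit 1])
))))
noncomputable def tU_hws : LT :=
(.leaf [])

noncomputable def tU_inv : ℕ → ℕ := getP (nat_lit 8) (nat_lit 255) (nat_lit 0x403020100)

noncomputable def tU_t : BT :=
(.node (.node (.node (.leaf (nat_lit 0x22261d32241c00265f00245e121e9a001edb221b1212191132179032158e32138c22120b12100a001b590019580017d7120b8d0015d6000bcf0013d5001254001053320605220504120403020302000649000548000447000346000040040001))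
 (.leaf (nat_lit 0xa2279b0023cfa2231a00204d0027df00235da21c14d21a0a001748001547001346001c59b21111a20f0b001153000cc404239e000ac304201c0008c2000f52001a580005c1041717041516041315000240040c90040a8e04088c040589040205))
) (.node (.leaf (nat_lit 0x722717c22519722290c22112001e4b721d9400255e0018c900275fc2168cc2148e001dda000fc600215c000dc50022dd000b440014d5720a080016d6041e1b0006c2041898000a4d0003c1040f93040d91040b0f00014004068a040387040103))
 (.leaf (nat_lit 0x100d600c10f00c0ce00c10d00c08b00c0ca00c0c900c08900c10800c10700c10600c0c600c0860080c50080850081040080840081030080c30081020080c20080820081010080c10080810080410041000040c0004080004040004000000000))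
)) (.node (.node (.leaf (nat_lit 0x52269e0026df52221c00225d421f0f521d0d521b9742198e001bd9621611621409521288421087520e90001656000ed2001f5b0019d8001d5a6209055208044207030014550012d40010d30002c100094c00084b00074a0000c0040286040082))
 (.leaf (nat_lit 0x1ffc001ffc001ffc001ffc001ffc001ffc001ffc001ffc001ffc001ffc001ffc001ffc001ffc001ffc001ffc001ffc001ffc001ffc001ffc001ffc001ffc001ffc001ffc001ffc001ffc001ffc001ffc001ffc001ffc001ffc001ffc001ffc0))
) (.leaf (nat_lit 0x25d69224910021ce922098821f93001cca001ac90020dc92181504259f0018570011c6001fdb000e450024de920d0c820c0704219d0009c3000d500007c2041c9a041a990004c1000c4f041194040e120001c004098d04078b040488040184))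
))

noncomputable def tU_rules : LT :=
(.node (.node (.node (.node (.leaf [nat_lit 6,nat_lit 1,nat_lit 1,nat_lit 0,nat_lit 1,nat_lit 0,nat_lit 1])
 (.leaf [nat_lit 13,nat_lit 3,nat_lit 1,nat_lit 3,nat_lit 2,nat_lit 0,nat_lit 3,nat_lit 2])
) (.node (.leaf [nat_lit 10,nat_lit 1,nat_lit 1,nat_lit 1,nat_lit 2,nat_lit 1,nat_lit 2])
 (.leaf [nat_lit 14,nat_lit 4,nat_lit 1,nat_lit 2,nat_lit 4,nat_lit 1,nat_lit 0,nat_lit 2,nat_lit 4])
)) (.node (.node (.leaf [nat_lit 8,nat_lit 1,nat_lit 1,nat_lit 0,nat_lit 3,nat_lit 0,nat_lit 3])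
 (.leaf [nat_lit 15,nat_lit 2,nat_lit 1,nat_lit 4,nat_lit 3,nat_lit 4,nat_lit 1,nat_lit 3])
) (.leaf [nat_lit 12,nat_lit 1,nat_lit 1,nat_lit 1,nat_lit 4,nat_lit 1,nat_lit 4])
)) (.node (.node (.node (.leaf [nat_lit 7,nat_lit 1,nat_lit 1,nat_lit 0,nat_lit 2,nat_lit 0,nat_lit 2])
 (.leaf [nat_lit 15,nat_lit 3,nat_lit 1,nat_lit 3,nat_lit 4,nat_lit 1,nat_lit 3,nat_lit 4])
) (.node (.leaf [nat_lit 11,nat_lit 1,nat_lit 1,nat_lit 1,nat_lit 3,nat_lit 1,nat_lit 3])
 (.leaf [nat_lit 14,nat_lit 3,nat_lit 1,nat_lit 4,nat_lit 2,nat_lit 4,nat_lit 1,nat_lit 0,nat_lit 2])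
)) (.node (.node (.leaf [nat_lit 9,nat_lit 1,nat_lit 1,nat_lit 0,nat_lit 4,nat_lit 0,nat_lit 4])
 (.leaf [nat_lit 14,nat_lit 2,nat_lit 0,nat_lit 4,nat_lit 2,nat_lit 0,nat_lit 1,nat_lit 4,nat_lit 2])
) (.leaf [nat_lit 13,nat_lit 2,nat_lit 1,nat_lit 2,nat_lit 3,nat_lit 2,nat_lit 0,nat_lit 3])
)))

noncomputable def tU_subs : LT :=
(.leaf [nat_lit 0,nat_lit 0,nat_lit 0,nat_lit 5])


noncomputable def tU : TC :=
  ⟨fun x c => Nat.shiftRight (BT.get tU_t x) (Nat.mul (nat_lit 24) c),
  (nat_lit 6), (nat_lit 63), (nat_lit 131071), (nat_lit 17), (nat_lit 127), (nat_lit 131008), (nat_lit 32), (nat_lit 32), (nat_lit 5), (nat_lit 0), (nat_lit 5), (nat_lit 6), tU_inv, tU_rules, tU_subs⟩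

theorem tU_c1 : tU.rules.all (ruleOK tU.m tU.inv tU_rels) = true := by decide +kernel
theorem tU_c2 : tU.subs.all (subOK tU.m tU.inv tU_hws) = true := by decide +kernel
theorem tU_c3 : tU.base = true := by decide +kernel

theorem tU_s0 : tU.slots (nat_lit 0) (nat_lit 32) = true := by decide +kernel

theorem tU_c4 : tU.Upto tU.N := ((TC.upto_zero tU).step _ tU_s0)
theorem tU_c5 : tU.UptoE tU.N := (TC.uptoE_n tU)
theorem tU_bound {G : Type*} [Group G] {g : ℕ → G} {H : Subgroup G} (hinv : ∀ x < 5, g x * g (tU_inv x) = 1)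
    (hrels : ∀ i, evalW g (tU_rels.get i) = 1) (hH : ∀ x < 0, g x ∈ H) (hhws : ∀ i, evalW g (tU_hws.get i) ∈ H) :
    H.relIndex (genLt g 5) ≠ 0 ∧ H.relIndex (genLt g 5) ≤ 32 :=
  TC.relIndex_le (T := tU) hinv hrels hH hhws tU_c1 tU_c2 tU_c3 tU_c4 tU_c5

theorem tU_bd : Bound.{u} relU 0 5 32 := fun _ _ _ _ hs hH =>
  tU_bound (hs.hinv (by decide +kernel)) (hs.tree (by decide +kernel)) hH (leaf_nil_mem' _ _ (by decide +kernel))

noncomputable def tS_rels : LT :=
(.node (.node (.node (.node (.node (.leaf [])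
 (.leaf [nat_lit 4,nat_lit 3,nat_lit 4,nat_lit 3,nat_lit 1])
) (.leaf [nat_lit 0,nat_lit 2,nat_lit 0,nat_lit 2])
) (.node (.node (.leaf [nat_lit 3,nat_lit 3])
 (.leaf [nat_lit 5,nat_lit 3,nat_lit 5,nat_lit 3])
) (.leaf [nat_lit 1,nat_lit 3,nat_lit 1,nat_lit 3])
)) (.node (.node (.node (.leaf [nat_lit 1,nat_lit 1])
 (.leaf [nat_lit 5,nat_lit 1,nat_lit 5,nat_lit 1,nat_lit 0])
) (.leaf [nat_lit 0,nat_lit 4,nat_lit 0,nat_lit 4])
) (.node (.leaf [nat_lit 5,nat_lit 5])
 (.leaf [nat_lit 2,nat_lit 3,nat_lit 2,nat_lit 3,nat_lit 0])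
))) (.node (.node (.node (.node (.leaf [nat_lit 0,nat_lit 0])
 (.leaf [nat_lit 5,nat_lit 0,nat_lit 5,nat_lit 0])
) (.leaf [nat_lit 0,nat_lit 3,nat_lit 0,nat_lit 3])
) (.node (.node (.leaf [nat_lit 4,nat_lit 4])
 (.leaf [nat_lit 4,nat_lit 5,nat_lit 4,nat_lit 5,nat_lit 1,nat_lit 3,nat_lit 2])
) (.leaf [nat_lit 1,nat_lit 4,nat_lit 1,nat_lit 4])
)) (.node (.node (.node (.leaf [nat_lit 2,nat_lit 2])
 (.leaf [nat_lit 5,nat_lit 2,nat_lit 5,nat_lit 2])
) (.leaf [nat_lit 1,nat_lit 2,nat_lit 1,nat_lit 2])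
) (.node (.leaf [nat_lit 0,nat_lit 1,nat_lit 0,nat_lit 1])
 (.leaf [nat_lit 4,nat_lit 2,nat_lit 4,nat_lit 2,nat_lit 0,nat_lit 1])
))))
noncomputable def tS_hws : LT :=
(.leaf [])

noncomputable def tS_inv : ℕ → ℕ := getP (nat_lit 8) (nat_lit 255) (nat_lit 0x50403020100)

noncomputable def tS_t : BT :=
(.node (.node (.node (.leaf (nat_lit 0x40e47000))
 (.leaf (nat_lit 0x841647020))
) (.node (.leaf (nat_lit 0x441047010))
 (.leaf (nat_lit 0x3fe00ff8))
)) (.node (.node (.leaf (nat_lit 0x241447008))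
 (.leaf (nat_lit 0xc02029))
) (.node (.leaf (nat_lit 0x641247018))
 (.leaf (nat_lit 0x20a00000))
)))

noncomputable def tS_rules : LT :=
(.node (.node (.node (.leaf [nat_lit 17,nat_lit 2,nat_lit 1,nat_lit 0,nat_lit 5,nat_lit 0,nat_lit 5])
 (.leaf [nat_lit 21,nat_lit 4,nat_lit 1,nat_lit 4,nat_lit 5,nat_lit 4,nat_lit 2,nat_lit 3,nat_lit 1,nat_lit 5])
) (.leaf [nat_lit 19,nat_lit 2,nat_lit 1,nat_lit 2,nat_lit 5,nat_lit 2,nat_lit 5])
) (.node (.leaf [nat_lit 18,nat_lit 3,nat_lit 1,nat_lit 1,nat_lit 5,nat_lit 0,nat_lit 1,nat_lit 5])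
 (.leaf [nat_lit 20,nat_lit 2,nat_lit 1,nat_lit 3,nat_lit 5,nat_lit 3,nat_lit 5])
))

noncomputable def tS_subs : LT :=
(.leaf [nat_lit 0,nat_lit 0,nat_lit 0,nat_lit 6])


noncomputable def tS : TC :=
  ⟨fun x c => Nat.shiftRight (BT.get tS_t x) (Nat.mul (nat_lit 18) c),
  (nat_lit 3), (nat_lit 7), (nat_lit 4095), (nat_lit 12), (nat_lit 63), (nat_lit 4088), (nat_lit 2), (nat_lit 2), (nat_lit 6), (nat_lit 5), (nat_lit 6), (nat_lit 7), tS_inv, tS_rules, tS_subs⟩

theorem tS_c1 : tS.rules.all (ruleOK tS.m tS.inv tS_rels) = true := by decide +kernel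
theorem tS_c2 : tS.subs.all (subOK tS.m tS.inv tS_hws) = true := by decide +kernel
theorem tS_c3 : tS.base = true := by decide +kernel

theorem tS_s0 : tS.slots (nat_lit 0) (nat_lit 2) = true := by decide +kernel

theorem tS_c4 : tS.Upto tS.N := ((TC.upto_zero tS).step _ tS_s0)
theorem tS_c5 : tS.UptoE tS.N := (TC.uptoE_n tS)
theorem tS_bound {G : Type*} [Group G] {g : ℕ → G} {H : Subgroup G} (hinv : ∀ x < 6, g x * g (tS_inv x) = 1)
    (hrels : ∀ i, evalW g (tS_rels.get i) = 1) (hH : ∀ x < 5, g x ∈ H) (hhws : ∀ i, evalW g (tS_hws.get i) ∈ H) :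
    H.relIndex (genLt g 6) ≠ 0 ∧ H.relIndex (genLt g 6) ≤ 2 :=
  TC.relIndex_le (T := tS) hinv hrels hH hhws tS_c1 tS_c2 tS_c3 tS_c4 tS_c5

theorem tS_bd : Bound.{u} relS 5 6 2 := fun _ _ _ _ hs hH =>
  tS_bound (hs.hinv (by decide +kernel)) (hs.tree (by decide +kernel)) hH (leaf_nil_mem' _ _ (by decide +kernel))

noncomputable def tC_rels : LT :=
(.node (.node (.node (.node (.node (.leaf [])
 (.leaf [nat_lit 2,nat_lit 3,nat_lit 2,nat_lit 3,nat_lit 0])
) (.node (.leaf [nat_lit 7,nat_lit 6])
 (.leaf [nat_lit 6,nat_lit 6,nat_lit 6])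
)) (.node (.node (.leaf [nat_lit 3,nat_lit 3])
 (.leaf [nat_lit 5,nat_lit 1,nat_lit 5,nat_lit 1,nat_lit 0])
) (.node (.leaf [nat_lit 0,nat_lit 4,nat_lit 0,nat_lit 4])
 (.leaf [nat_lit 6,nat_lit 3,nat_lit 7,nat_lit 5])
))) (.node (.node (.node (.leaf [nat_lit 1,nat_lit 1])
 (.leaf [nat_lit 4,nat_lit 3,nat_lit 4,nat_lit 3,nat_lit 1])
) (.node (.leaf [nat_lit 0,nat_lit 2,nat_lit 0,nat_lit 2])
 (.leaf [nat_lit 6,nat_lit 1,nat_lit 7,nat_lit 2])
)) (.node (.node (.leaf [nat_lit 5,nat_lit 5])
 (.leaf [nat_lit 5,nat_lit 3,nat_lit 5,nat_lit 3])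
) (.node (.leaf [nat_lit 1,nat_lit 3,nat_lit 1,nat_lit 3])
 (.leaf [nat_lit 4,nat_lit 6,nat_lit 4,nat_lit 6,nat_lit 5,nat_lit 1])
)))) (.node (.node (.node (.node (.leaf [nat_lit 0,nat_lit 0])
 (.leaf [nat_lit 4,nat_lit 2,nat_lit 4,nat_lit 2,nat_lit 0,nat_lit 1])
) (.node (.leaf [nat_lit 0,nat_lit 1,nat_lit 0,nat_lit 1])
 (.leaf [nat_lit 6,nat_lit 0,nat_lit 7,nat_lit 0])
)) (.node (.node (.leaf [nat_lit 4,nat_lit 4])
 (.leaf [nat_lit 5,nat_lit 2,nat_lit 5,nat_lit 2])
) (.node (.leaf [nat_lit 1,nat_lit 2,nat_lit 1,nat_lit 2])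
 (.leaf [nat_lit 6,nat_lit 5,nat_lit 7,nat_lit 5,nat_lit 3])
))) (.node (.node (.node (.leaf [nat_lit 2,nat_lit 2])
 (.leaf [nat_lit 5,nat_lit 0,nat_lit 5,nat_lit 0])
) (.node (.leaf [nat_lit 0,nat_lit 3,nat_lit 0,nat_lit 3])
 (.leaf [nat_lit 6,nat_lit 2,nat_lit 7,nat_lit 2,nat_lit 1])
)) (.node (.node (.leaf [nat_lit 6,nat_lit 7])
 (.leaf [nat_lit 4,nat_lit 5,nat_lit 4,nat_lit 5,nat_lit 1,nat_lit 3,nat_lit 2])
) (.leaf [nat_lit 1,nat_lit 4,nat_lit 1,nat_lit 4])
))))
noncomputable def tC_hws : LT :=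
(.leaf [])

noncomputable def tC_inv : ℕ → ℕ := getP (nat_lit 8) (nat_lit 255) (nat_lit 0x607050403020100)

noncomputable def tC_t : BT :=
(.node (.node (.node (.node (.leaf (nat_lit 0x52112020810e000))
 (.leaf (nat_lit 0x1ff001ff001ff0))
) (.leaf (nat_lit 0x92161001720e040))
) (.node (.leaf (nat_lit 0x72122220b10e020))
 (.leaf (nat_lit 0xe00010204061))
)) (.node (.node (.node (.leaf (nat_lit 0x62142120910e010))
 (.leaf (nat_lit 0x10700106000000))
) (.leaf (nat_lit 0xa2132420c10e050))
) (.node (.leaf (nat_lit 0x82152320a10e030))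
 (.leaf (nat_lit 0xb20f100070040d2))
)))

noncomputable def tC_rules : LT :=
(.node (.node (.node (.node (.leaf [nat_lit 25,nat_lit 2,nat_lit 1,nat_lit 0,nat_lit 7,nat_lit 0,nat_lit 6])
 (.leaf [nat_lit 29,nat_lit 0,nat_lit 1,nat_lit 3,nat_lit 5,nat_lit 6,nat_lit 5,nat_lit 7])
) (.leaf [nat_lit 29,nat_lit 3,nat_lit 1,nat_lit 5,nat_lit 7,nat_lit 3,nat_lit 5,nat_lit 6])
) (.node (.node (.leaf [nat_lit 27,nat_lit 3,nat_lit 1,nat_lit 2,nat_lit 7,nat_lit 1,nat_lit 2,nat_lit 6])
 (.leaf [nat_lit 28,nat_lit 0,nat_lit 1,nat_lit 5,nat_lit 6,nat_lit 3,nat_lit 7])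
) (.leaf [nat_lit 27,nat_lit 0,nat_lit 1,nat_lit 1,nat_lit 2,nat_lit 6,nat_lit 2,nat_lit 7])
)) (.node (.node (.node (.leaf [nat_lit 26,nat_lit 2,nat_lit 1,nat_lit 1,nat_lit 7,nat_lit 2,nat_lit 6])
 (.leaf [nat_lit 30,nat_lit 2,nat_lit 0,nat_lit 4,nat_lit 6,nat_lit 5,nat_lit 1,nat_lit 4,nat_lit 6])
) (.leaf [nat_lit 25,nat_lit 0,nat_lit 1,nat_lit 0,nat_lit 6,nat_lit 0,nat_lit 7])
) (.node (.node (.leaf [nat_lit 28,nat_lit 2,nat_lit 1,nat_lit 3,nat_lit 7,nat_lit 5,nat_lit 6])
 (.leaf [nat_lit 24,nat_lit 1,nat_lit 0,nat_lit 7,nat_lit 6,nat_lit 6])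
) (.leaf [nat_lit 26,nat_lit 0,nat_lit 1,nat_lit 2,nat_lit 6,nat_lit 1,nat_lit 7])
)))

noncomputable def tC_subs : LT :=
(.leaf [nat_lit 0,nat_lit 0,nat_lit 0,nat_lit 8])


noncomputable def tC : TC :=
  ⟨fun x c => Nat.shiftRight (BT.get tC_t x) (Nat.mul (nat_lit 20) c),
  (nat_lit 4), (nat_lit 15), (nat_lit 8191), (nat_lit 13), (nat_lit 127), (nat_lit 8176), (nat_lit 3), (nat_lit 3), (nat_lit 8), (nat_lit 6), (nat_lit 8), (nat_lit 9), tC_inv, tC_rules, tC_subs⟩

theorem tC_c1 : tC.rules.all (ruleOK tC.m tC.inv tC_rels) = true := by decide +kernel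
theorem tC_c2 : tC.subs.all (subOK tC.m tC.inv tC_hws) = true := by decide +kernel
theorem tC_c3 : tC.base = true := by decide +kernel

theorem tC_s0 : tC.slots (nat_lit 0) (nat_lit 3) = true := by decide +kernel

theorem tC_c4 : tC.Upto tC.N := ((TC.upto_zero tC).step _ tC_s0)
theorem tC_c5 : tC.UptoE tC.N := (TC.uptoE_n tC)
theorem tC_bound {G : Type*} [Group G] {g : ℕ → G} {H : Subgroup G} (hinv : ∀ x < 8, g x * g (tC_inv x) = 1)
    (hrels : ∀ i, evalW g (tC_rels.get i) = 1) (hH : ∀ x < 6, g x ∈ H) (hhws : ∀ i, evalW g (tC_hws.get i) ∈ H) :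
    H.relIndex (genLt g 8) ≠ 0 ∧ H.relIndex (genLt g 8) ≤ 3 :=
  TC.relIndex_le (T := tC) hinv hrels hH hhws tC_c1 tC_c2 tC_c3 tC_c4 tC_c5

theorem tC_bd : Bound.{u} relC 6 8 3 := fun _ _ _ _ hs hH =>
  tC_bound (hs.hinv (by decide +kernel)) (hs.tree (by decide +kernel)) hH (leaf_nil_mem' _ _ (by decide +kernel))

theorem pres0 : Pres.{u} rel0 5 32 := pres_nil.step t0_bd (by decide +kernel)

theorem presU : Pres.{u} relU 5 32 := pres_nil.step tU_bd (by decide +kernel)

theorem presS : Pres.{u} relS 6 64 := presU.step tS_bd (by decide +kernel)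

theorem presC : Pres.{u} relC 8 192 := presS.step tC_bd (by decide +kernel)

theorem cC_ok : allL cC (permOK 8) = true := by decide +kernel

theorem c0_ok : allL c0 (permOK 8) = true := by decide +kernel

noncomputable def U0_t : ST :=
(.node (nat_lit 0x600010207050403) (.node (nat_lit 0x300010207040506) (.node (nat_lit 0x6010203040507) (.node (nat_lit 0x3040506010207) (.node (nat_lit 0x3020106040507) (.leaf (nat_lit 0x3010206050407) (nat_lit 516))
 (.leaf (nat_lit 0x3020106040507) (nat_lit 515))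
) (.node (nat_lit 0x3050406020107) (.leaf (nat_lit 0x3040506010207) (nat_lit 256))
 (.leaf (nat_lit 0x3050406020107) (nat_lit 513))
)) (.node (nat_lit 0x6040503020107) (.node (nat_lit 0x6020103050407) (.leaf (nat_lit 0x6010203040507) (nat_lit 260))
 (.leaf (nat_lit 0x6020103050407) (nat_lit 516))
) (.node (nat_lit 0x6050403010207) (.leaf (nat_lit 0x6040503020107) (nat_lit 515))
 (.leaf (nat_lit 0x6050403010207) (nat_lit 771))
))) (.node (nat_lit 0x307010200050406) (.node (nat_lit 0x300040507020106) (.node (nat_lit 0x300020107050406) (.leaf (nat_lit 0x300010207040506) (nat_lit 771))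
 (.leaf (nat_lit 0x300020107050406) (nat_lit 772))
) (.node (nat_lit 0x300050407010206) (.leaf (nat_lit 0x300040507020106) (nat_lit 770))
 (.leaf (nat_lit 0x300050407010206) (nat_lit 514))
)) (.node (nat_lit 0x307040500010206) (.node (nat_lit 0x307020100040506) (.leaf (nat_lit 0x307010200050406) (nat_lit 514))
 (.leaf (nat_lit 0x307020100040506) (nat_lit 770))
) (.node (nat_lit 0x307050400020106) (.leaf (nat_lit 0x307040500010206) (nat_lit 515))
 (.leaf (nat_lit 0x307050400020106) (nat_lit 770))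
)))) (.node (nat_lit 0x703010206040500) (.node (nat_lit 0x607010200040503) (.node (nat_lit 0x600040507010203) (.node (nat_lit 0x600020107040503) (.leaf (nat_lit 0x600010207050403) (nat_lit 772))
 (.leaf (nat_lit 0x600020107040503) (nat_lit 516))
) (.node (nat_lit 0x600050407020103) (.leaf (nat_lit 0x600040507010203) (nat_lit 514))
 (.leaf (nat_lit 0x600050407020103) (nat_lit 771))
)) (.node (nat_lit 0x607040500020103) (.node (nat_lit 0x607020100050403) (.leaf (nat_lit 0x607010200040503) (nat_lit 1028))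
 (.leaf (nat_lit 0x607020100050403) (nat_lit 772))
) (.node (nat_lit 0x607050400010203) (.leaf (nat_lit 0x607040500020103) (nat_lit 258))
 (.leaf (nat_lit 0x607050400010203) (nat_lit 514))
))) (.node (nat_lit 0x706010203050400) (.node (nat_lit 0x703040506020100) (.node (nat_lit 0x703020106050400) (.leaf (nat_lit 0x703010206040500) (nat_lit 772))
 (.leaf (nat_lit 0x703020106050400) (nat_lit 516))
) (.node (nat_lit 0x703050406010200) (.leaf (nat_lit 0x703040506020100) (nat_lit 515))
 (.leaf (nat_lit 0x703050406010200) (nat_lit 259))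
)) (.node (nat_lit 0x706040503010200) (.node (nat_lit 0x706020103040500) (.leaf (nat_lit 0x706010203050400) (nat_lit 771))
 (.leaf (nat_lit 0x706020103040500) (nat_lit 772))
) (.node (nat_lit 0x706050403020100) (.leaf (nat_lit 0x706040503010200) (nat_lit 257))
 (.leaf (nat_lit 0x706050403020100) (nat_lit 0))
)))))

theorem U0_ok : genOK A [(nat_lit 0x3040506010207), (nat_lit 0x706040503010200), (nat_lit 0x607040500020103), (nat_lit 0x703050406010200), (nat_lit 0x6010203040507)] U0_t (nat_lit 32) = true := by decide +kernel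

noncomputable def Y_t : ST :=
(.node (nat_lit 0x706040503010200) (.node (nat_lit 0x3050406020107) (.leaf (nat_lit 0x3040506010207) (nat_lit 256))
 (.leaf (nat_lit 0x3050406020107) (nat_lit 513))
) (.node (nat_lit 0x706050403020100) (.leaf (nat_lit 0x706040503010200) (nat_lit 257))
 (.leaf (nat_lit 0x706050403020100) (nat_lit 0))
))

theorem Y_ok : genOK A [(nat_lit 0x3040506010207), (nat_lit 0x706040503010200)] Y_t (nat_lit 4) = true := by decide +kernel

noncomputable def V_t : ST :=
(.node (nat_lit 0x703040506020100) (.node (nat_lit 0x6040503020107) (.node (nat_lit 0x3050406020107) (.leaf (nat_lit 0x3040506010207) (nat_lit 256))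
 (.leaf (nat_lit 0x3050406020107) (nat_lit 513))
) (.node (nat_lit 0x6050403010207) (.leaf (nat_lit 0x6040503020107) (nat_lit 514))
 (.leaf (nat_lit 0x6050403010207) (nat_lit 770))
)) (.node (nat_lit 0x706040503010200) (.node (nat_lit 0x703050406010200) (.leaf (nat_lit 0x703040506020100) (nat_lit 514))
 (.leaf (nat_lit 0x703050406010200) (nat_lit 258))
) (.node (nat_lit 0x706050403020100) (.leaf (nat_lit 0x706040503010200) (nat_lit 257))
 (.leaf (nat_lit 0x706050403020100) (nat_lit 0))
)))

theorem V_ok : genOK A [(nat_lit 0x3040506010207), (nat_lit 0x706040503010200), (nat_lit 0x703050406010200)] V_t (nat_lit 8) = true := by decide +kernel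

noncomputable def W_t : ST :=
(.node (nat_lit 0x600010207050403) (.node (nat_lit 0x300010207040506) (.node (nat_lit 0x6040503020107) (.node (nat_lit 0x3050406020107) (.leaf (nat_lit 0x3040506010207) (nat_lit 256))
 (.leaf (nat_lit 0x3050406020107) (nat_lit 513))
) (.node (nat_lit 0x6050403010207) (.leaf (nat_lit 0x6040503020107) (nat_lit 514))
 (.leaf (nat_lit 0x6050403010207) (nat_lit 770))
)) (.node (nat_lit 0x307010200050406) (.node (nat_lit 0x300020107050406) (.leaf (nat_lit 0x300010207040506) (nat_lit 771))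
 (.leaf (nat_lit 0x300020107050406) (nat_lit 515))
) (.node (nat_lit 0x307020100040506) (.leaf (nat_lit 0x307010200050406) (nat_lit 770))
 (.leaf (nat_lit 0x307020100040506) (nat_lit 514))
))) (.node (nat_lit 0x703040506020100) (.node (nat_lit 0x607010200040503) (.node (nat_lit 0x600020107040503) (.leaf (nat_lit 0x600010207050403) (nat_lit 515))
 (.leaf (nat_lit 0x600020107040503) (nat_lit 771))
) (.node (nat_lit 0x607020100050403) (.leaf (nat_lit 0x607010200040503) (nat_lit 259))
 (.leaf (nat_lit 0x607020100050403) (nat_lit 515))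
)) (.node (nat_lit 0x706040503010200) (.node (nat_lit 0x703050406010200) (.leaf (nat_lit 0x703040506020100) (nat_lit 514))
 (.leaf (nat_lit 0x703050406010200) (nat_lit 258))
) (.node (nat_lit 0x706050403020100) (.leaf (nat_lit 0x706040503010200) (nat_lit 257))
 (.leaf (nat_lit 0x706050403020100) (nat_lit 0))
))))

theorem W_ok : genOK A [(nat_lit 0x3040506010207), (nat_lit 0x706040503010200), (nat_lit 0x703050406010200), (nat_lit 0x607010200040503)] W_t (nat_lit 16) = true := by decide +kernel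

noncomputable def U_t : ST :=
(.node (nat_lit 0x600010207050403) (.node (nat_lit 0x300010207040506) (.node (nat_lit 0x6010203040507) (.node (nat_lit 0x3040506010207) (.node (nat_lit 0x3020106040507) (.leaf (nat_lit 0x3010206050407) (nat_lit 771))
 (.leaf (nat_lit 0x3020106040507) (nat_lit 772))
) (.node (nat_lit 0x3050406020107) (.leaf (nat_lit 0x3040506010207) (nat_lit 256))
 (.leaf (nat_lit 0x3050406020107) (nat_lit 513))
)) (.node (nat_lit 0x6040503020107) (.node (nat_lit 0x6020103050407) (.leaf (nat_lit 0x6010203040507) (nat_lit 1027))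
 (.leaf (nat_lit 0x6020103050407) (nat_lit 772))
) (.node (nat_lit 0x6050403010207) (.leaf (nat_lit 0x6040503020107) (nat_lit 514))
 (.leaf (nat_lit 0x6050403010207) (nat_lit 770))
))) (.node (nat_lit 0x307010200050406) (.node (nat_lit 0x300040507020106) (.node (nat_lit 0x300020107050406) (.leaf (nat_lit 0x300010207040506) (nat_lit 771))
 (.leaf (nat_lit 0x300020107050406) (nat_lit 515))
) (.node (nat_lit 0x300050407010206) (.leaf (nat_lit 0x300040507020106) (nat_lit 772))
 (.leaf (nat_lit 0x300050407010206) (nat_lit 516))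
)) (.node (nat_lit 0x307040500010206) (.node (nat_lit 0x307020100040506) (.leaf (nat_lit 0x307010200050406) (nat_lit 770))
 (.leaf (nat_lit 0x307020100040506) (nat_lit 514))
) (.node (nat_lit 0x307050400020106) (.leaf (nat_lit 0x307040500010206) (nat_lit 514))
 (.leaf (nat_lit 0x307050400020106) (nat_lit 772))
)))) (.node (nat_lit 0x703010206040500) (.node (nat_lit 0x607010200040503) (.node (nat_lit 0x600040507010203) (.node (nat_lit 0x600020107040503) (.leaf (nat_lit 0x600010207050403) (nat_lit 515))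
 (.leaf (nat_lit 0x600020107040503) (nat_lit 771))
) (.node (nat_lit 0x600050407020103) (.leaf (nat_lit 0x600040507010203) (nat_lit 516))
 (.leaf (nat_lit 0x600050407020103) (nat_lit 770))
)) (.node (nat_lit 0x607040500020103) (.node (nat_lit 0x607020100050403) (.leaf (nat_lit 0x607010200040503) (nat_lit 259))
 (.leaf (nat_lit 0x607020100050403) (nat_lit 515))
) (.node (nat_lit 0x607050400010203) (.leaf (nat_lit 0x607040500020103) (nat_lit 260))
 (.leaf (nat_lit 0x607050400010203) (nat_lit 516))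
))) (.node (nat_lit 0x706010203050400) (.node (nat_lit 0x703040506020100) (.node (nat_lit 0x703020106050400) (.leaf (nat_lit 0x703010206040500) (nat_lit 772))
 (.leaf (nat_lit 0x703020106050400) (nat_lit 771))
) (.node (nat_lit 0x703050406010200) (.leaf (nat_lit 0x703040506020100) (nat_lit 514))
 (.leaf (nat_lit 0x703050406010200) (nat_lit 258))
)) (.node (nat_lit 0x706040503010200) (.node (nat_lit 0x706020103040500) (.leaf (nat_lit 0x706010203050400) (nat_lit 516))
 (.leaf (nat_lit 0x706020103040500) (nat_lit 515))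
) (.node (nat_lit 0x706050403020100) (.leaf (nat_lit 0x706040503010200) (nat_lit 257))
 (.leaf (nat_lit 0x706050403020100) (nat_lit 0))
)))))

theorem U_ok : genOK A [(nat_lit 0x3040506010207), (nat_lit 0x706040503010200), (nat_lit 0x703050406010200), (nat_lit 0x607010200040503), (nat_lit 0x607040500020103)] U_t (nat_lit 32) = true := by decide +kernel

noncomputable def S_t : ST :=
(.node (nat_lit 0x401000702030605) (.node (nat_lit 0x204000705030601) (.node (nat_lit 0x104000705060302) (.node (nat_lit 0x6010203040507) (.node (nat_lit 0x3040506010207) (.node (nat_lit 0x3020106040507) (.leaf (nat_lit 0x3010206050407) (nat_lit 771))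
 (.leaf (nat_lit 0x3020106040507) (nat_lit 772))
) (.node (nat_lit 0x3050406020107) (.leaf (nat_lit 0x3040506010207) (nat_lit 256))
 (.leaf (nat_lit 0x3050406020107) (nat_lit 513))
)) (.node (nat_lit 0x6040503020107) (.node (nat_lit 0x6020103050407) (.leaf (nat_lit 0x6010203040507) (nat_lit 773))
 (.leaf (nat_lit 0x6020103050407) (nat_lit 772))
) (.node (nat_lit 0x6050403010207) (.leaf (nat_lit 0x6040503020107) (nat_lit 514))
 (.leaf (nat_lit 0x6050403010207) (nat_lit 770))
))) (.node (nat_lit 0x105000704030602) (.node (nat_lit 0x104060305070002) (.node (nat_lit 0x104030605000702) (.leaf (nat_lit 0x104000705060302) (nat_lit 771))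
 (.leaf (nat_lit 0x104030605000702) (nat_lit 1028))
) (.node (nat_lit 0x104070005030602) (.leaf (nat_lit 0x104060305070002) (nat_lit 773))
 (.leaf (nat_lit 0x104070005030602) (nat_lit 773))
)) (.node (nat_lit 0x105060304000702) (.node (nat_lit 0x105030604070002) (.leaf (nat_lit 0x105000704030602) (nat_lit 773))
 (.leaf (nat_lit 0x105030604070002) (nat_lit 769))
) (.node (nat_lit 0x105070004060302) (.leaf (nat_lit 0x105060304000702) (nat_lit 773))
 (.leaf (nat_lit 0x105070004060302) (nat_lit 769))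
)))) (.node (nat_lit 0x300010207040506) (.node (nat_lit 0x205000704060301) (.node (nat_lit 0x204060305000701) (.node (nat_lit 0x204030605070001) (.leaf (nat_lit 0x204000705030601) (nat_lit 773))
 (.leaf (nat_lit 0x204030605070001) (nat_lit 517))
) (.node (nat_lit 0x204070005060301) (.leaf (nat_lit 0x204060305000701) (nat_lit 773))
 (.leaf (nat_lit 0x204070005060301) (nat_lit 517))
)) (.node (nat_lit 0x205060304070001) (.node (nat_lit 0x205030604000701) (.leaf (nat_lit 0x205000704060301) (nat_lit 772))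
 (.leaf (nat_lit 0x205030604000701) (nat_lit 773))
) (.node (nat_lit 0x205070004030601) (.leaf (nat_lit 0x205060304070001) (nat_lit 772))
 (.leaf (nat_lit 0x205070004030601) (nat_lit 773))
))) (.node (nat_lit 0x307010200050406) (.node (nat_lit 0x300040507020106) (.node (nat_lit 0x300020107050406) (.leaf (nat_lit 0x300010207040506) (nat_lit 771))
 (.leaf (nat_lit 0x300020107050406) (nat_lit 515))
) (.node (nat_lit 0x300050407010206) (.leaf (nat_lit 0x300040507020106) (nat_lit 772))
 (.leaf (nat_lit 0x300050407010206) (nat_lit 516))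
)) (.node (nat_lit 0x307040500010206) (.node (nat_lit 0x307020100040506) (.leaf (nat_lit 0x307010200050406) (nat_lit 770))
 (.leaf (nat_lit 0x307020100040506) (nat_lit 514))
) (.node (nat_lit 0x307050400020106) (.leaf (nat_lit 0x307040500010206) (nat_lit 514))
 (.leaf (nat_lit 0x307050400020106) (nat_lit 772))
))))) (.node (nat_lit 0x600010207050403) (.node (nat_lit 0x501000702060304) (.node (nat_lit 0x402000701060305) (.node (nat_lit 0x401060302000705) (.node (nat_lit 0x401030602070005) (.leaf (nat_lit 0x401000702030605) (nat_lit 517))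
 (.leaf (nat_lit 0x401030602070005) (nat_lit 772))
) (.node (nat_lit 0x401070002060305) (.leaf (nat_lit 0x401060302000705) (nat_lit 772))
 (.leaf (nat_lit 0x401070002060305) (nat_lit 773))
)) (.node (nat_lit 0x402060301070005) (.node (nat_lit 0x402030601000705) (.leaf (nat_lit 0x402000701060305) (nat_lit 261))
 (.leaf (nat_lit 0x402030601000705) (nat_lit 773))
) (.node (nat_lit 0x402070001030605) (.leaf (nat_lit 0x402060301070005) (nat_lit 773))
 (.leaf (nat_lit 0x402070001030605) (nat_lit 517))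
))) (.node (nat_lit 0x502000701030604) (.node (nat_lit 0x501060302070004) (.node (nat_lit 0x501030602000704) (.leaf (nat_lit 0x501000702060304) (nat_lit 513))
 (.leaf (nat_lit 0x501030602000704) (nat_lit 772))
) (.node (nat_lit 0x501070002030604) (.leaf (nat_lit 0x501060302070004) (nat_lit 770))
 (.leaf (nat_lit 0x501070002030604) (nat_lit 517))
)) (.node (nat_lit 0x502060301000704) (.node (nat_lit 0x502030601070004) (.leaf (nat_lit 0x502000701030604) (nat_lit 769))
 (.leaf (nat_lit 0x502030601070004) (nat_lit 516))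
) (.node (nat_lit 0x502070001060304) (.leaf (nat_lit 0x502060301000704) (nat_lit 772))
 (.leaf (nat_lit 0x502070001060304) (nat_lit 773))
)))) (.node (nat_lit 0x703010206040500) (.node (nat_lit 0x607010200040503) (.node (nat_lit 0x600040507010203) (.node (nat_lit 0x600020107040503) (.leaf (nat_lit 0x600010207050403) (nat_lit 515))
 (.leaf (nat_lit 0x600020107040503) (nat_lit 771))
) (.node (nat_lit 0x600050407020103) (.leaf (nat_lit 0x600040507010203) (nat_lit 516))
 (.leaf (nat_lit 0x600050407020103) (nat_lit 770))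
)) (.node (nat_lit 0x607040500020103) (.node (nat_lit 0x607020100050403) (.leaf (nat_lit 0x607010200040503) (nat_lit 259))
 (.leaf (nat_lit 0x607020100050403) (nat_lit 515))
) (.node (nat_lit 0x607050400010203) (.leaf (nat_lit 0x607040500020103) (nat_lit 260))
 (.leaf (nat_lit 0x607050400010203) (nat_lit 516))
))) (.node (nat_lit 0x706010203050400) (.node (nat_lit 0x703040506020100) (.node (nat_lit 0x703020106050400) (.leaf (nat_lit 0x703010206040500) (nat_lit 772))
 (.leaf (nat_lit 0x703020106050400) (nat_lit 771))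
) (.node (nat_lit 0x703050406010200) (.leaf (nat_lit 0x703040506020100) (nat_lit 514))
 (.leaf (nat_lit 0x703050406010200) (nat_lit 258))
)) (.node (nat_lit 0x706040503010200) (.node (nat_lit 0x706020103040500) (.leaf (nat_lit 0x706010203050400) (nat_lit 516))
 (.leaf (nat_lit 0x706020103040500) (nat_lit 515))
) (.node (nat_lit 0x706050403020100) (.leaf (nat_lit 0x706040503010200) (nat_lit 257))
 (.leaf (nat_lit 0x706050403020100) (nat_lit 0))
))))))

theorem S_ok : genOK A [(nat_lit 0x3040506010207), (nat_lit 0x706040503010200), (nat_lit 0x703050406010200), (nat_lit 0x607010200040503), (nat_lit 0x607040500020103), (nat_lit 0x402000701060305)] S_t (nat_lit 64) = true := by decide +kernel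

noncomputable def C_t : ST :=
(.node (nat_lit 0x400010207060305) (.node (nat_lit 0x200030607040501) (.node (nat_lit 0x100030607050402) (.node (nat_lit 0x4010205030607) (.node (nat_lit 0x2050401060307) (.node (nat_lit 0x1060302050407) (.node (nat_lit 0x1040502060307) (.leaf (nat_lit 0x1030602040507) (nat_lit 775))
 (.node (nat_lit 0x1050402030607) (.leaf (nat_lit 0x1040502060307) (nat_lit 1031))
 (.leaf (nat_lit 0x1050402030607) (nat_lit 1031))
)) (.node (nat_lit 0x2030601050407) (.leaf (nat_lit 0x1060302050407) (nat_lit 519))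
 (.node (nat_lit 0x2040501030607) (.leaf (nat_lit 0x2030601050407) (nat_lit 770))
 (.leaf (nat_lit 0x2040501030607) (nat_lit 1027))
))) (.node (nat_lit 0x3020106040507) (.node (nat_lit 0x2060301040507) (.leaf (nat_lit 0x2050401060307) (nat_lit 1029))
 (.node (nat_lit 0x3010206050407) (.leaf (nat_lit 0x2060301040507) (nat_lit 775))
 (.leaf (nat_lit 0x3010206050407) (nat_lit 771))
)) (.node (nat_lit 0x3040506010207) (.leaf (nat_lit 0x3020106040507) (nat_lit 772))
 (.node (nat_lit 0x3050406020107) (.leaf (nat_lit 0x3040506010207) (nat_lit 256))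
 (.leaf (nat_lit 0x3050406020107) (nat_lit 513))
)))) (.node (nat_lit 0x5030604010207) (.node (nat_lit 0x4060305010207) (.node (nat_lit 0x4020105060307) (.leaf (nat_lit 0x4010205030607) (nat_lit 769))
 (.node (nat_lit 0x4030605020107) (.leaf (nat_lit 0x4020105060307) (nat_lit 774))
 (.leaf (nat_lit 0x4030605020107) (nat_lit 1029))
)) (.node (nat_lit 0x5010204060307) (.leaf (nat_lit 0x4060305010207) (nat_lit 1028))
 (.node (nat_lit 0x5020104030607) (.leaf (nat_lit 0x5010204060307) (nat_lit 774))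
 (.leaf (nat_lit 0x5020104030607) (nat_lit 518))
))) (.node (nat_lit 0x6020103050407) (.node (nat_lit 0x5060304020107) (.leaf (nat_lit 0x5030604010207) (nat_lit 1030))
 (.node (nat_lit 0x6010203040507) (.leaf (nat_lit 0x5060304020107) (nat_lit 1030))
 (.leaf (nat_lit 0x6010203040507) (nat_lit 773))
)) (.node (nat_lit 0x6040503020107) (.leaf (nat_lit 0x6020103050407) (nat_lit 772))
 (.node (nat_lit 0x6050403010207) (.leaf (nat_lit 0x6040503020107) (nat_lit 514))
 (.leaf (nat_lit 0x6050403010207) (nat_lit 770))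
))))) (.node (nat_lit 0x105000704030602) (.node (nat_lit 0x103050406000702) (.node (nat_lit 0x100060307040502) (.node (nat_lit 0x100040507030602) (.leaf (nat_lit 0x100030607050402) (nat_lit 775))
 (.node (nat_lit 0x100050407060302) (.leaf (nat_lit 0x100040507030602) (nat_lit 775))
 (.leaf (nat_lit 0x100050407060302) (nat_lit 1031))
)) (.node (nat_lit 0x103000706040502) (.leaf (nat_lit 0x100060307040502) (nat_lit 1031))
 (.node (nat_lit 0x103040506070002) (.leaf (nat_lit 0x103000706040502) (nat_lit 774))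
 (.leaf (nat_lit 0x103040506070002) (nat_lit 1029))
))) (.node (nat_lit 0x104030605000702) (.node (nat_lit 0x103070006050402) (.leaf (nat_lit 0x103050406000702) (nat_lit 1028))
 (.node (nat_lit 0x104000705060302) (.leaf (nat_lit 0x103070006050402) (nat_lit 774))
 (.leaf (nat_lit 0x104000705060302) (nat_lit 771))
)) (.node (nat_lit 0x104060305070002) (.leaf (nat_lit 0x104030605000702) (nat_lit 1028))
 (.node (nat_lit 0x104070005030602) (.leaf (nat_lit 0x104060305070002) (nat_lit 773))
 (.leaf (nat_lit 0x104070005030602) (nat_lit 773))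
)))) (.node (nat_lit 0x106050403070002) (.node (nat_lit 0x105070004060302) (.node (nat_lit 0x105030604070002) (.leaf (nat_lit 0x105000704030602) (nat_lit 773))
 (.node (nat_lit 0x105060304000702) (.leaf (nat_lit 0x105030604070002) (nat_lit 769))
 (.leaf (nat_lit 0x105060304000702) (nat_lit 773))
)) (.node (nat_lit 0x106000703050402) (.leaf (nat_lit 0x105070004060302) (nat_lit 769))
 (.node (nat_lit 0x106040503000702) (.leaf (nat_lit 0x106000703050402) (nat_lit 769))
 (.leaf (nat_lit 0x106040503000702) (nat_lit 1031))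
))) (.node (nat_lit 0x107040500060302) (.node (nat_lit 0x106070003040502) (.leaf (nat_lit 0x106050403070002) (nat_lit 774))
 (.node (nat_lit 0x107030600040502) (.leaf (nat_lit 0x106070003040502) (nat_lit 1030))
 (.leaf (nat_lit 0x107030600040502) (nat_lit 770))
)) (.node (nat_lit 0x107050400030602) (.leaf (nat_lit 0x107040500060302) (nat_lit 775))
 (.node (nat_lit 0x107060300050402) (.leaf (nat_lit 0x107050400030602) (nat_lit 770))
 (.leaf (nat_lit 0x107060300050402) (nat_lit 775))
)))))) (.node (nat_lit 0x300010207040506) (.node (nat_lit 0x205000704060301) (.node (nat_lit 0x203050406070001) (.node (nat_lit 0x200060307050401) (.node (nat_lit 0x200040507060301) (.leaf (nat_lit 0x200030607040501) (nat_lit 773))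
 (.node (nat_lit 0x200050407030601) (.leaf (nat_lit 0x200040507060301) (nat_lit 1026))
 (.leaf (nat_lit 0x200050407030601) (nat_lit 775))
)) (.node (nat_lit 0x203000706050401) (.leaf (nat_lit 0x200060307050401) (nat_lit 775))
 (.node (nat_lit 0x203040506000701) (.leaf (nat_lit 0x203000706050401) (nat_lit 774))
 (.leaf (nat_lit 0x203040506000701) (nat_lit 1030))
))) (.node (nat_lit 0x204030605070001) (.node (nat_lit 0x203070006040501) (.leaf (nat_lit 0x203050406070001) (nat_lit 775))
 (.node (nat_lit 0x204000705030601) (.leaf (nat_lit 0x203070006040501) (nat_lit 1025))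
 (.leaf (nat_lit 0x204000705030601) (nat_lit 773))
)) (.node (nat_lit 0x204060305000701) (.leaf (nat_lit 0x204030605070001) (nat_lit 517))
 (.node (nat_lit 0x204070005060301) (.leaf (nat_lit 0x204060305000701) (nat_lit 773))
 (.leaf (nat_lit 0x204070005060301) (nat_lit 517))
)))) (.node (nat_lit 0x206050403000701) (.node (nat_lit 0x205070004030601) (.node (nat_lit 0x205030604000701) (.leaf (nat_lit 0x205000704060301) (nat_lit 772))
 (.node (nat_lit 0x205060304070001) (.leaf (nat_lit 0x205030604000701) (nat_lit 773))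
 (.leaf (nat_lit 0x205060304070001) (nat_lit 772))
)) (.node (nat_lit 0x206000703040501) (.leaf (nat_lit 0x205070004030601) (nat_lit 773))
 (.node (nat_lit 0x206040503070001) (.leaf (nat_lit 0x206000703040501) (nat_lit 518))
 (.leaf (nat_lit 0x206040503070001) (nat_lit 772))
))) (.node (nat_lit 0x207040500030601) (.node (nat_lit 0x206070003050401) (.leaf (nat_lit 0x206050403000701) (nat_lit 773))
 (.node (nat_lit 0x207030600050401) (.leaf (nat_lit 0x206070003050401) (nat_lit 774))
 (.leaf (nat_lit 0x207030600050401) (nat_lit 775))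
)) (.node (nat_lit 0x207050400060301) (.leaf (nat_lit 0x207040500030601) (nat_lit 775))
 (.node (nat_lit 0x207060300040501) (.leaf (nat_lit 0x207050400060301) (nat_lit 519))
 (.leaf (nat_lit 0x207060300040501) (nat_lit 519))
))))) (.node (nat_lit 0x304000705010206) (.node (nat_lit 0x301050402070006) (.node (nat_lit 0x300050407010206) (.node (nat_lit 0x300020107050406) (.leaf (nat_lit 0x300010207040506) (nat_lit 771))
 (.node (nat_lit 0x300040507020106) (.leaf (nat_lit 0x300020107050406) (nat_lit 515))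
 (.leaf (nat_lit 0x300040507020106) (nat_lit 772))
)) (.node (nat_lit 0x301000702050406) (.leaf (nat_lit 0x300050407010206) (nat_lit 516))
 (.node (nat_lit 0x301040502000706) (.leaf (nat_lit 0x301000702050406) (nat_lit 770))
 (.leaf (nat_lit 0x301040502000706) (nat_lit 771))
))) (.node (nat_lit 0x302040501070006) (.node (nat_lit 0x301070002040506) (.leaf (nat_lit 0x301050402070006) (nat_lit 770))
 (.node (nat_lit 0x302000701040506) (.leaf (nat_lit 0x301070002040506) (nat_lit 772))
 (.leaf (nat_lit 0x302000701040506) (nat_lit 1028))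
)) (.node (nat_lit 0x302050401000706) (.leaf (nat_lit 0x302040501070006) (nat_lit 1027))
 (.node (nat_lit 0x302070001050406) (.leaf (nat_lit 0x302050401000706) (nat_lit 1027))
 (.leaf (nat_lit 0x302070001050406) (nat_lit 1028))
)))) (.node (nat_lit 0x305020104070006) (.node (nat_lit 0x304070005020106) (.node (nat_lit 0x304010205070006) (.leaf (nat_lit 0x304000705010206) (nat_lit 770))
 (.node (nat_lit 0x304020105000706) (.leaf (nat_lit 0x304010205070006) (nat_lit 775))
 (.leaf (nat_lit 0x304020105000706) (nat_lit 772))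
)) (.node (nat_lit 0x305000704020106) (.leaf (nat_lit 0x304070005020106) (nat_lit 1031))
 (.node (nat_lit 0x305010204000706) (.leaf (nat_lit 0x305000704020106) (nat_lit 775))
 (.leaf (nat_lit 0x305010204000706) (nat_lit 1029))
))) (.node (nat_lit 0x307020100040506) (.node (nat_lit 0x305070004010206) (.leaf (nat_lit 0x305020104070006) (nat_lit 770))
 (.node (nat_lit 0x307010200050406) (.leaf (nat_lit 0x305070004010206) (nat_lit 775))
 (.leaf (nat_lit 0x307010200050406) (nat_lit 770))
)) (.node (nat_lit 0x307040500010206) (.leaf (nat_lit 0x307020100040506) (nat_lit 514))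
 (.node (nat_lit 0x307050400020106) (.leaf (nat_lit 0x307040500010206) (nat_lit 514))
 (.leaf (nat_lit 0x307050400020106) (nat_lit 772))
))))))) (.node (nat_lit 0x600010207050403) (.node (nat_lit 0x500010207030604) (.node (nat_lit 0x403000706020105) (.node (nat_lit 0x401060302000705) (.node (nat_lit 0x400060307020105) (.node (nat_lit 0x400020107030605) (.leaf (nat_lit 0x400010207060305) (nat_lit 1030))
 (.node (nat_lit 0x400030607010205) (.leaf (nat_lit 0x400020107030605) (nat_lit 774))
 (.leaf (nat_lit 0x400030607010205) (nat_lit 774))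
)) (.node (nat_lit 0x401000702030605) (.leaf (nat_lit 0x400060307020105) (nat_lit 773))
 (.node (nat_lit 0x401030602070005) (.leaf (nat_lit 0x401000702030605) (nat_lit 517))
 (.leaf (nat_lit 0x401030602070005) (nat_lit 772))
))) (.node (nat_lit 0x402030601000705) (.node (nat_lit 0x401070002060305) (.leaf (nat_lit 0x401060302000705) (nat_lit 772))
 (.node (nat_lit 0x402000701060305) (.leaf (nat_lit 0x401070002060305) (nat_lit 773))
 (.leaf (nat_lit 0x402000701060305) (nat_lit 261))
)) (.node (nat_lit 0x402060301070005) (.leaf (nat_lit 0x402030601000705) (nat_lit 773))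
 (.node (nat_lit 0x402070001030605) (.leaf (nat_lit 0x402060301070005) (nat_lit 773))
 (.leaf (nat_lit 0x402070001030605) (nat_lit 517))
)))) (.node (nat_lit 0x406020103000705) (.node (nat_lit 0x403070006010205) (.node (nat_lit 0x403010206000705) (.leaf (nat_lit 0x403000706020105) (nat_lit 1030))
 (.node (nat_lit 0x403020106070005) (.leaf (nat_lit 0x403010206000705) (nat_lit 773))
 (.leaf (nat_lit 0x403020106070005) (nat_lit 773))
)) (.node (nat_lit 0x406000703010205) (.leaf (nat_lit 0x403070006010205) (nat_lit 1028))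
 (.node (nat_lit 0x406010203070005) (.leaf (nat_lit 0x406000703010205) (nat_lit 774))
 (.leaf (nat_lit 0x406010203070005) (nat_lit 517))
))) (.node (nat_lit 0x407020100060305) (.node (nat_lit 0x406070003020105) (.leaf (nat_lit 0x406020103000705) (nat_lit 773))
 (.node (nat_lit 0x407010200030605) (.leaf (nat_lit 0x406070003020105) (nat_lit 775))
 (.leaf (nat_lit 0x407010200030605) (nat_lit 774))
)) (.node (nat_lit 0x407030600020105) (.leaf (nat_lit 0x407020100060305) (nat_lit 518))
 (.node (nat_lit 0x407060300010205) (.leaf (nat_lit 0x407030600020105) (nat_lit 518))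
 (.leaf (nat_lit 0x407060300010205) (nat_lit 774))
))))) (.node (nat_lit 0x503000706010204) (.node (nat_lit 0x501060302070004) (.node (nat_lit 0x500060307010204) (.node (nat_lit 0x500020107060304) (.leaf (nat_lit 0x500010207030604) (nat_lit 774))
 (.node (nat_lit 0x500030607020104) (.leaf (nat_lit 0x500020107060304) (nat_lit 1030))
 (.leaf (nat_lit 0x500030607020104) (nat_lit 1030))
)) (.node (nat_lit 0x501000702060304) (.leaf (nat_lit 0x500060307010204) (nat_lit 774))
 (.node (nat_lit 0x501030602000704) (.leaf (nat_lit 0x501000702060304) (nat_lit 513))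
 (.leaf (nat_lit 0x501030602000704) (nat_lit 772))
))) (.node (nat_lit 0x502030601070004) (.node (nat_lit 0x501070002030604) (.leaf (nat_lit 0x501060302070004) (nat_lit 770))
 (.node (nat_lit 0x502000701030604) (.leaf (nat_lit 0x501070002030604) (nat_lit 517))
 (.leaf (nat_lit 0x502000701030604) (nat_lit 769))
)) (.node (nat_lit 0x502060301000704) (.leaf (nat_lit 0x502030601070004) (nat_lit 516))
 (.node (nat_lit 0x502070001060304) (.leaf (nat_lit 0x502060301000704) (nat_lit 772))
 (.leaf (nat_lit 0x502070001060304) (nat_lit 773))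
)))) (.node (nat_lit 0x506020103070004) (.node (nat_lit 0x503070006020104) (.node (nat_lit 0x503010206070004) (.leaf (nat_lit 0x503000706010204) (nat_lit 1031))
 (.node (nat_lit 0x503020106000704) (.leaf (nat_lit 0x503010206070004) (nat_lit 1029))
 (.leaf (nat_lit 0x503020106000704) (nat_lit 773))
)) (.node (nat_lit 0x506000703020104) (.leaf (nat_lit 0x503070006020104) (nat_lit 1030))
 (.node (nat_lit 0x506010203000704) (.leaf (nat_lit 0x506000703020104) (nat_lit 772))
 (.leaf (nat_lit 0x506010203000704) (nat_lit 1029))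
))) (.node (nat_lit 0x507020100030604) (.node (nat_lit 0x506070003010204) (.leaf (nat_lit 0x506020103070004) (nat_lit 772))
 (.node (nat_lit 0x507010200060304) (.leaf (nat_lit 0x506070003010204) (nat_lit 1028))
 (.leaf (nat_lit 0x507010200060304) (nat_lit 769))
)) (.node (nat_lit 0x507030600010204) (.leaf (nat_lit 0x507020100030604) (nat_lit 774))
 (.node (nat_lit 0x507060300020104) (.leaf (nat_lit 0x507030600010204) (nat_lit 769))
 (.leaf (nat_lit 0x507060300020104) (nat_lit 774))
)))))) (.node (nat_lit 0x701030602050400) (.node (nat_lit 0x604000705020103) (.node (nat_lit 0x601050402000703) (.node (nat_lit 0x600050407020103) (.node (nat_lit 0x600020107040503) (.leaf (nat_lit 0x600010207050403) (nat_lit 515))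
 (.node (nat_lit 0x600040507010203) (.leaf (nat_lit 0x600020107040503) (nat_lit 771))
 (.leaf (nat_lit 0x600040507010203) (nat_lit 516))
)) (.node (nat_lit 0x601000702040503) (.leaf (nat_lit 0x600050407020103) (nat_lit 770))
 (.node (nat_lit 0x601040502070003) (.leaf (nat_lit 0x601000702040503) (nat_lit 772))
 (.leaf (nat_lit 0x601040502070003) (nat_lit 771))
))) (.node (nat_lit 0x602040501000703) (.node (nat_lit 0x601070002050403) (.leaf (nat_lit 0x601050402000703) (nat_lit 771))
 (.node (nat_lit 0x602000701050403) (.leaf (nat_lit 0x601070002050403) (nat_lit 772))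
 (.leaf (nat_lit 0x602000701050403) (nat_lit 516))
)) (.node (nat_lit 0x602050401070003) (.leaf (nat_lit 0x602040501000703) (nat_lit 771))
 (.node (nat_lit 0x602070001040503) (.leaf (nat_lit 0x602050401070003) (nat_lit 515))
 (.leaf (nat_lit 0x602070001040503) (nat_lit 772))
)))) (.node (nat_lit 0x605020104000703) (.node (nat_lit 0x604070005010203) (.node (nat_lit 0x604010205000703) (.leaf (nat_lit 0x604000705020103) (nat_lit 519))
 (.node (nat_lit 0x604020105070003) (.leaf (nat_lit 0x604010205000703) (nat_lit 772))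
 (.leaf (nat_lit 0x604020105070003) (nat_lit 773))
)) (.node (nat_lit 0x605000704010203) (.leaf (nat_lit 0x604070005010203) (nat_lit 775))
 (.node (nat_lit 0x605010204070003) (.leaf (nat_lit 0x605000704010203) (nat_lit 775))
 (.leaf (nat_lit 0x605010204070003) (nat_lit 516))
))) (.node (nat_lit 0x607020100050403) (.node (nat_lit 0x605070004020103) (.leaf (nat_lit 0x605020104000703) (nat_lit 772))
 (.node (nat_lit 0x607010200040503) (.leaf (nat_lit 0x605070004020103) (nat_lit 771))
 (.leaf (nat_lit 0x607010200040503) (nat_lit 259))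
)) (.node (nat_lit 0x607040500020103) (.leaf (nat_lit 0x607020100050403) (nat_lit 515))
 (.node (nat_lit 0x607050400010203) (.leaf (nat_lit 0x607040500020103) (nat_lit 260))
 (.leaf (nat_lit 0x607050400010203) (nat_lit 516))
))))) (.node (nat_lit 0x704010205060300) (.node (nat_lit 0x702050401030600) (.node (nat_lit 0x701060302040500) (.node (nat_lit 0x701040502030600) (.leaf (nat_lit 0x701030602050400) (nat_lit 519))
 (.node (nat_lit 0x701050402060300) (.leaf (nat_lit 0x701040502030600) (nat_lit 1027))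
 (.leaf (nat_lit 0x701050402060300) (nat_lit 771))
)) (.node (nat_lit 0x702030601040500) (.leaf (nat_lit 0x701060302040500) (nat_lit 514))
 (.node (nat_lit 0x702040501060300) (.leaf (nat_lit 0x702030601040500) (nat_lit 263))
 (.leaf (nat_lit 0x702040501060300) (nat_lit 775))
))) (.node (nat_lit 0x703020106050400) (.node (nat_lit 0x702060301050400) (.leaf (nat_lit 0x702050401030600) (nat_lit 775))
 (.node (nat_lit 0x703010206040500) (.leaf (nat_lit 0x702060301050400) (nat_lit 519))
 (.leaf (nat_lit 0x703010206040500) (nat_lit 772))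
)) (.node (nat_lit 0x703040506020100) (.leaf (nat_lit 0x703020106050400) (nat_lit 771))
 (.node (nat_lit 0x703050406010200) (.leaf (nat_lit 0x703040506020100) (nat_lit 514))
 (.leaf (nat_lit 0x703050406010200) (nat_lit 258))
)))) (.node (nat_lit 0x705030604020100) (.node (nat_lit 0x704060305020100) (.node (nat_lit 0x704020105030600) (.leaf (nat_lit 0x704010205060300) (nat_lit 262))
 (.node (nat_lit 0x704030605010200) (.leaf (nat_lit 0x704020105030600) (nat_lit 518))
 (.leaf (nat_lit 0x704030605010200) (nat_lit 774))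
)) (.node (nat_lit 0x705010204030600) (.leaf (nat_lit 0x704060305020100) (nat_lit 774))
 (.node (nat_lit 0x705020104060300) (.leaf (nat_lit 0x705010204030600) (nat_lit 518))
 (.leaf (nat_lit 0x705020104060300) (nat_lit 513))
))) (.node (nat_lit 0x706020103040500) (.node (nat_lit 0x705060304010200) (.leaf (nat_lit 0x705030604020100) (nat_lit 772))
 (.node (nat_lit 0x706010203050400) (.leaf (nat_lit 0x705060304010200) (nat_lit 1028))
 (.leaf (nat_lit 0x706010203050400) (nat_lit 516))
)) (.node (nat_lit 0x706040503010200) (.leaf (nat_lit 0x706020103040500) (nat_lit 515))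
 (.node (nat_lit 0x706050403020100) (.leaf (nat_lit 0x706040503010200) (nat_lit 257))
 (.leaf (nat_lit 0x706050403020100) (nat_lit 0))
))))))))

theorem C_ok : genOK A [(nat_lit 0x3040506010207), (nat_lit 0x706040503010200), (nat_lit 0x703050406010200), (nat_lit 0x607010200040503), (nat_lit 0x607040500020103), (nat_lit 0x402000701060305), (nat_lit 0x704010205060300), (nat_lit 0x702030601040500)] C_t (nat_lit 192) = true := by decide +kernel

noncomputable def Q_t : ST :=
(.node (nat_lit 0x401000702030605) (.node (nat_lit 0x204030605070001) (.node (nat_lit 0x104030605000702) (.node (nat_lit 0x6040503020107) (.node (nat_lit 0x3050406020107) (.leaf (nat_lit 0x3040506010207) (nat_lit 256))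
 (.leaf (nat_lit 0x3050406020107) (nat_lit 513))
) (.node (nat_lit 0x6050403010207) (.leaf (nat_lit 0x6040503020107) (nat_lit 514))
 (.leaf (nat_lit 0x6050403010207) (nat_lit 770))
)) (.node (nat_lit 0x105030604070002) (.node (nat_lit 0x104060305070002) (.leaf (nat_lit 0x104030605000702) (nat_lit 1028))
 (.leaf (nat_lit 0x104060305070002) (nat_lit 772))
) (.node (nat_lit 0x105060304000702) (.leaf (nat_lit 0x105030604070002) (nat_lit 769))
 (.leaf (nat_lit 0x105060304000702) (nat_lit 772))
))) (.node (nat_lit 0x300010207040506) (.node (nat_lit 0x205030604000701) (.node (nat_lit 0x204060305000701) (.leaf (nat_lit 0x204030605070001) (nat_lit 516))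
 (.leaf (nat_lit 0x204060305000701) (nat_lit 772))
) (.node (nat_lit 0x205060304070001) (.leaf (nat_lit 0x205030604000701) (nat_lit 772))
 (.leaf (nat_lit 0x205060304070001) (nat_lit 1028))
)) (.node (nat_lit 0x307010200050406) (.node (nat_lit 0x300020107050406) (.leaf (nat_lit 0x300010207040506) (nat_lit 771))
 (.leaf (nat_lit 0x300020107050406) (nat_lit 515))
) (.node (nat_lit 0x307020100040506) (.leaf (nat_lit 0x307010200050406) (nat_lit 770))
 (.leaf (nat_lit 0x307020100040506) (nat_lit 514))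
)))) (.node (nat_lit 0x600010207050403) (.node (nat_lit 0x501000702060304) (.node (nat_lit 0x402000701060305) (.node (nat_lit 0x401070002060305) (.leaf (nat_lit 0x401000702030605) (nat_lit 516))
 (.leaf (nat_lit 0x401070002060305) (nat_lit 772))
) (.node (nat_lit 0x402070001030605) (.leaf (nat_lit 0x402000701060305) (nat_lit 260))
 (.leaf (nat_lit 0x402070001030605) (nat_lit 516))
)) (.node (nat_lit 0x502000701030604) (.node (nat_lit 0x501070002030604) (.leaf (nat_lit 0x501000702060304) (nat_lit 513))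
 (.leaf (nat_lit 0x501070002030604) (nat_lit 516))
) (.node (nat_lit 0x502070001060304) (.leaf (nat_lit 0x502000701030604) (nat_lit 769))
 (.leaf (nat_lit 0x502070001060304) (nat_lit 772))
))) (.node (nat_lit 0x703040506020100) (.node (nat_lit 0x607010200040503) (.node (nat_lit 0x600020107040503) (.leaf (nat_lit 0x600010207050403) (nat_lit 515))
 (.leaf (nat_lit 0x600020107040503) (nat_lit 771))
) (.node (nat_lit 0x607020100050403) (.leaf (nat_lit 0x607010200040503) (nat_lit 259))
 (.leaf (nat_lit 0x607020100050403) (nat_lit 515))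
)) (.node (nat_lit 0x706040503010200) (.node (nat_lit 0x703050406010200) (.leaf (nat_lit 0x703040506020100) (nat_lit 514))
 (.leaf (nat_lit 0x703050406010200) (nat_lit 258))
) (.node (nat_lit 0x706050403020100) (.leaf (nat_lit 0x706040503010200) (nat_lit 257))
 (.leaf (nat_lit 0x706050403020100) (nat_lit 0))
)))))

theorem Q_ok : genOK A [(nat_lit 0x3040506010207), (nat_lit 0x706040503010200), (nat_lit 0x703050406010200), (nat_lit 0x607010200040503), (nat_lit 0x402000701060305)] Q_t (nat_lit 32) = true := by decide +kernel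

noncomputable def T_t : ST :=
(.node (nat_lit 0x402000701060305) (.node (nat_lit 0x204030605070001) (.node (nat_lit 0x105030604070002) (.node (nat_lit 0x3050406020107) (.leaf (nat_lit 0x3040506010207) (nat_lit 256))
 (.leaf (nat_lit 0x3050406020107) (nat_lit 513))
) (.node (nat_lit 0x105060304000702) (.leaf (nat_lit 0x105030604070002) (nat_lit 769))
 (.leaf (nat_lit 0x105060304000702) (nat_lit 771))
)) (.node (nat_lit 0x300010207040506) (.node (nat_lit 0x204060305000701) (.leaf (nat_lit 0x204030605070001) (nat_lit 515))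
 (.leaf (nat_lit 0x204060305000701) (nat_lit 771))
) (.node (nat_lit 0x300020107050406) (.leaf (nat_lit 0x300010207040506) (nat_lit 770))
 (.leaf (nat_lit 0x300020107050406) (nat_lit 514))
))) (.node (nat_lit 0x607010200040503) (.node (nat_lit 0x501000702060304) (.node (nat_lit 0x402070001030605) (.leaf (nat_lit 0x402000701060305) (nat_lit 259))
 (.leaf (nat_lit 0x402070001030605) (nat_lit 515))
) (.node (nat_lit 0x501070002030604) (.leaf (nat_lit 0x501000702060304) (nat_lit 513))
 (.leaf (nat_lit 0x501070002030604) (nat_lit 515))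
)) (.node (nat_lit 0x706040503010200) (.node (nat_lit 0x607020100050403) (.leaf (nat_lit 0x607010200040503) (nat_lit 258))
 (.leaf (nat_lit 0x607020100050403) (nat_lit 514))
) (.node (nat_lit 0x706050403020100) (.leaf (nat_lit 0x706040503010200) (nat_lit 257))
 (.leaf (nat_lit 0x706050403020100) (nat_lit 0))
))))

theorem T_ok : genOK A [(nat_lit 0x3040506010207), (nat_lit 0x706040503010200), (nat_lit 0x607010200040503), (nat_lit 0x402000701060305)] T_t (nat_lit 16) = true := by decide +kernel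

end Cfsg.Agent.NG.SmC
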