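import Mathlib
import Cfsg.Agent.NG.BgkR

/-!
# Polynomial identities for a fixed point of the BGGKPP map in `Sz(q)`

`s, t` stand for a parameter and its image under the Suzuki twist (`t ↦ s ^ 2`), so that the twist
of `p s t` is `p t (s ^ 2)`.
-/

set_option autoImplicit false

namespace Cfsg.Agent.NG.Bgk

section Defs

variable {F : Type*} [Add F] [Mul F] [Pow F ℕ] [One F]

/-- The polynomial `μ`; its twist is `δ`. -/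
def pmu (s t : F) : F := s^3 + s + t^2 + t

/-- The polynomial `ε`. -/
def pep (s t : F) : F := s + t + 1

/-- The polynomial `ρ`. -/
def prho (s t : F) : F :=
  s^7 + s^6 + s^5*t + s^3*t^3 + s^3*t^2 + s^2*t^3 + s*t^4 + s^3*t + s*t^3 + s^3 + s^2*t + t^3 + s^2
    + t

/-- The polynomial `η`. -/
def peta (s t : F) : F :=
  s^7 + s^4*t^3 + s^6 + s^5*t + s^3*t^3 + s^4*t + t^5 + s^2*t^2 + s*t^3 + t^4 + s^3 + t^3 + s^2 +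
    s*t + t^2

/-- The homogenised entry `(3, 0)`. -/
def f30 (a A b B c C d D al ka : F) : F :=
  a^2*b^2*c^2*C + a*B^2*c*C + c^2*C*al^4*ka^2 + a^4*A*b^2 + A*b^2*al^4 + b*c*al^4*ka^2 +
    a*A*B*c*C*al^2 + a^3*b^3 + a^2*b^2*B + c*d*al^4*ka^2 + a*A^2*b*al^4 + a^4*A^2*c^2*C + a*b*B^2 +
    B^3 + a*b*al^4*ka^2 + B^2*c^2*C + a^3*b^2*c*C + a^6*A^3 + a^2*A*B^2 + a^2*A*b*c*C*al^2 +
    a*d*al^4*ka^2 + B*al^4*ka^2 + a^4*A^2*B + a^5*A^2*b + D*al^4*ka^2 + a^5*A^2*c*C +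
    a^3*A^2*c*C*al^2

/-- The homogenised entry `(3, 1)`. -/
def f31 (a A b B c C d D al ka : F) : F :=
  a^5*A^3 + a*A*B*c^2*C + a*c*d*al^2*ka^2 + b*c^2*al^2*ka^2 + a^2*A^2*b*al^2 + b*B^2 + a^4*A^2*b +
    a*A^3*al^4 + c^3*C*al^2*ka^2 + c*D*al^2*ka^2 + a^2*A*c*al^2*ka^2 + A*B*c*C*al^2 + a*B*al^2*ka^2
    + a^2*A*B*c*C + a*b*c*al^2*ka^2 + b^3*al^2 + a*A*B^2 + d*al^4*ka^2 + b*al^4*ka^2 + a*A*b^2*al^2
    + c^2*d*al^2*ka^2 + A^2*b*al^4 + a^3*A*b^2 + a*A^2*B*al^2 + a^3*A^3*al^2 + a*A*b*c*C*al^2 +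
    a*b^2*c^2*C + a^2*b^3 + a^2*b^2*c*C + b*B*c^2*C + a^3*A^2*c^2*C + a^4*A^2*c*C + a*b*B*c*C +
    b^2*c*C*al^2 + A*c*al^4*ka^2 + A*b*B*al^2 + B*c*al^2*ka^2

/-- The homogenised entry `(3, 2)`. -/
def f32 (a A b B c C d D al ka : F) : F :=
  a^3*b*c*C + a*d^2*al^2 + a*A^2*al^4 + A*c*C*al^4 + a^2*A*b*al^2 + d*D*al^2 + a^2*A*d*al^2 +
    c*al^4*ka^2 + A*b*al^4 + a^3*al^2*ka^2 + a^3*A^2*al^2 + a*c*C*d*al^2 + c*d^2*al^2 + a^3*b^2 +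
    a*B^2 + a^2*B*c*C + b*C*al^4 + a^2*A*c*C*al^2 + a*B*c^2*C + a*b*c*C*al^2 + a*b*d*al^2 +
    a^3*A*c^2*C + a*A*B*al^2 + a*al^4*ka^2 + c*C*D*al^2 + b*c^2*C*al^2 + B*d*al^2 + c^3*C^2*al^2 +
    b*B*al^2 + a^5*A^2 + a^4*A*c*C + a*A*C*al^4 + b*c*d*al^2 + a^2*b*c^2*C + C*d*al^4

/-- The homogenised entry `(2, 0)`. -/
def f20 (a A b B c C d D al ka : F) : F :=
  b*al^4*ka^2 + c^2*d*al^2*ka^2 + a*b^2*c^2*C + a^2*A^2*c*C*al^2 + A^2*b*al^4 + a^2*b^3 +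
    a*B*al^2*ka^2 + a^2*b^2*c*C + a*c*d*al^2*ka^2 + b*B*c^2*C + b*c^2*al^2*ka^2 + c*C*al^4*ka^2 +
    a^2*A^2*b*al^2 + a*b*c*al^2*ka^2 + b^3*al^2 + b*B^2 + a^3*A*b*c*C + a^4*A^2*b + c^3*C*al^2*ka^2
    + a^2*A*b*c^2*C + c*D*al^2*ka^2 + a*b*B*c*C + a^2*A*c*al^2*ka^2 + d*al^4*ka^2 + a*A*al^4*ka^2 +
    b^2*c*C*al^2 + a*C*al^4*ka^2 + A*B*c*C*al^2 + A*b*B*al^2 + B*c*al^2*ka^2 + a^3*A*al^2*ka^2 +
    a*A*b*c*C*al^2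

/-- The homogenised entry `(1, 0)`. -/
def f10 (a A b B c C d D al ka : F) : F :=
  a^2*C*d*al^2 + a^3*b*c*C + A*c^2*d*al^2 + a*d^2*al^2 + a^2*A*d*al^2 + a*c^2*C^2*al^2 +
    a^2*A^2*c*al^2 + A*b*c^2*al^2 + A*b*al^4 + a*c*C*d*al^2 + a^3*b^2 + a^2*B*c*C + a^3*A*C*al^2 +
    A*c^3*C*al^2 + a*A*b*c*al^2 + a^4*A*c*C + a*C^2*al^4 + d*D*al^2 + a*C*D*al^2 + A*c*D*al^2 +
    c*al^4*ka^2 + B*c*C*al^2 + a^5*A^2 + a*B*C*al^2 + a^3*al^2*ka^2 + c*d^2*al^2 + a*B^2 +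
    a*A*c*d*al^2 + a^2*b*C*al^2 + b*C*al^4 + a*B*c^2*C + c*C^2*al^4 + a*b*c*C*al^2 + a*b*d*al^2 +
    a^3*A*c^2*C + b*c*d*al^2 + A*B*c*al^2 + a*al^4*ka^2 + B*d*al^2 + b*B*al^2 + a^2*A*c*C*al^2 +
    c^2*C*d*al^2 + a^2*b*c^2*C + C*d*al^4

end Defs

/-- The coefficients of the quadratic equation for `Z`. -/
def xE : Ex := Ex.t^2 * pep .t (Ex.s^2) ^ 2 * (Ex.s^2 * pep .s .t ^ 2)

/-- The coefficients of the quadratic equation for `Z`. -/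
def xG : Ex := Ex.t^2 * pep .t (Ex.s^2) ^ 2 * peta .s .t ^ 2 + peta .t (Ex.s^2) ^ 2

/-- The twist of `Z`. -/
def xW : Ex := Ex.s^2 * pep .s .t ^ 2 * .z + peta .s .t ^ 2

/-- Substitute the parametrisation. -/
def sub {F : Type*} [Add F] [Mul F] [Pow F ℕ] [One F]
    (f : F → F → F → F → F → F → F → F → F → F → F) (s t Z W : F) : F :=
  f (t^2 * pep s t ^ 2) (s^4 * pep t (s^2) ^ 2) (s^2 * Z + t^4 * (t + 1)^4)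
    (t^2 * W + s^8 * (s^2 + 1)^4) (pmu s t ^ 2) (pmu t (s^2) ^ 2)
    ((t + 1)^2 * Z + prho s t ^ 2) ((s^2 + 1)^2 * W + prho t (s^2) ^ 2)
    (s * pmu t (s^2)) (t * pmu s t ^ 2)

variable {F : Type*} [Field F] [CharP F 2] {s t Z W : F}

omit [CharP F 2] in
theorem quad (hW : W = s^2 * pep s t ^ 2 * Z + peta s t ^ 2)
    (hZ : Z^2 = t^2 * pep t (s^2) ^ 2 * W + peta t (s^2) ^ 2) :
    Z ^ 2 = den s t 1 xE * Z + den s t 1 xG := by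
  rw [hZ, hW]
  change _ = t^2 * pep t (s^2) ^ 2 * (s^2 * pep s t ^ 2) * Z +
    (t^2 * pep t (s^2) ^ 2 * peta s t ^ 2 + peta t (s^2) ^ 2)
  ring

theorem e30 (hW : W = s^2 * pep s t ^ 2 * Z + peta s t ^ 2)
    (hZ : Z^2 = t^2 * pep t (s^2) ^ 2 * W + peta t (s^2) ^ 2) : sub f30 s t Z W = 0 := by
  have := den_eq_zero (e := sub f30 .s .t .z xW) (quad hW hZ) (by decide +kernel)
  rw [hW]
  exact this

theorem e31 (hW : W = s^2 * pep s t ^ 2 * Z + peta s t ^ 2)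
    (hZ : Z^2 = t^2 * pep t (s^2) ^ 2 * W + peta t (s^2) ^ 2) : sub f31 s t Z W = 0 := by
  have := den_eq_zero (e := sub f31 .s .t .z xW) (quad hW hZ) (by decide +kernel)
  rw [hW]
  exact this

theorem e32 (hW : W = s^2 * pep s t ^ 2 * Z + peta s t ^ 2)
    (hZ : Z^2 = t^2 * pep t (s^2) ^ 2 * W + peta t (s^2) ^ 2) : sub f32 s t Z W = 0 := by
  have := den_eq_zero (e := sub f32 .s .t .z xW) (quad hW hZ) (by decide +kernel)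
  rw [hW]
  exact this

theorem e20 (hW : W = s^2 * pep s t ^ 2 * Z + peta s t ^ 2)
    (hZ : Z^2 = t^2 * pep t (s^2) ^ 2 * W + peta t (s^2) ^ 2) : sub f20 s t Z W = 0 := by
  have := den_eq_zero (e := sub f20 .s .t .z xW) (quad hW hZ) (by decide +kernel)
  rw [hW]
  exact this

theorem e10 (hW : W = s^2 * pep s t ^ 2 * Z + peta s t ^ 2)
    (hZ : Z^2 = t^2 * pep t (s^2) ^ 2 * W + peta t (s^2) ^ 2) : sub f10 s t Z W = 0 := by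
  have := den_eq_zero (e := sub f10 .s .t .z xW) (quad hW hZ) (by decide +kernel)
  rw [hW]
  exact this

end Cfsg.Agent.NG.Bgk
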